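import Mathlib

/-!
# Étale coordinates along a section of a smooth algebra
-/

set_option autoImplicit false
set_option linter.style.haveILetI false
universe u

open IsLocalRing TensorProduct KaehlerDifferential

namespace Groth.Agent.SectChartLib

/-- Étaleness at a prime from bijectivity of differentials on the residue field. -/
theorem isEtaleAt_of_bijective_baseChange {A B₁ B₂ : Type u} [CommRing A] [CommRing B₁] [CommRing B₂] [Algebra A B₁]
    [Algebra A B₂] [Algebra B₂ B₁] [IsScalarTower A B₂ B₁] [Algebra.FinitePresentation A B₁]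
    [Algebra.FiniteType A B₂] (P : Ideal B₁) [P.IsPrime] [Algebra.IsSmoothAt A P]
    (hbij : Function.Bijective ((mapBaseChange A B₂ (Localization.AtPrime P)).baseChange
      (ResidueField (Localization.AtPrime P)))) : Algebra.IsEtaleAt B₂ P := by
  let T := Localization.AtPrime P
  haveI : Algebra.FormallySmooth A T := ‹Algebra.IsSmoothAt A P›
  haveI : Algebra.EssFiniteType A T := Algebra.EssFiniteType.comp A B₁ T
  haveI : Module.Free T Ω[T⁄A] := Module.free_of_flat_of_isLocalRing
  let f := mapBaseChange A B₂ T
  let k := ResidueField T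
  obtain ⟨l, hl⟩ := (IsLocalRing.split_injective_iff_lTensor_residueField_injective f).mpr hbij.1
  have hfi : Function.Injective f := Function.LeftInverse.injective (DFunLike.congr_fun hl)
  have hfs : Function.Surjective f := by
    rw [← LinearMap.range_eq_top]
    refine IsLocalRing.map_tensorProduct_mk_eq_top.mp (eq_top_iff.mpr ?_)
    intro y _
    obtain ⟨z, rfl⟩ := hbij.2 y
    obtain ⟨x, rfl⟩ := TensorProduct.mk_surjective T _ k residue_surjective z
    exact ⟨f x, ⟨x, rfl⟩, (LinearMap.baseChange_tmul _ _ _).symm⟩
  refine ⟨?_, ?_⟩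
  · refine ⟨fun a b => ?_⟩
    obtain ⟨a, rfl⟩ := KaehlerDifferential.map_surjective A B₂ T a
    obtain ⟨b, rfl⟩ := KaehlerDifferential.map_surjective A B₂ T b
    obtain ⟨a, rfl⟩ := hfs a
    obtain ⟨b, rfl⟩ := hfs b
    rw [(exact_mapBaseChange_map A B₂ T).apply_apply_eq_zero, (exact_mapBaseChange_map A B₂ T).apply_apply_eq_zero]
  · refine ⟨fun a b => ?_⟩
    have h0 : ∀ a : Algebra.H1Cotangent B₂ T, a = 0 := fun a => by
      have ha : Algebra.H1Cotangent.δ A B₂ T a = 0 :=
        hfi (((Algebra.H1Cotangent.exact_δ_mapBaseChange A B₂ T).apply_apply_eq_zero a).trans (map_zero f).symm)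
      obtain ⟨c, rfl⟩ := (Algebra.H1Cotangent.exact_map_δ A B₂ T a).mp ha
      rw [Subsingleton.elim c 0, map_zero]
    rw [h0 a, h0 b]

/-- Near a point of a section a smooth algebra has étale coordinates vanishing on the section. -/
theorem exists_coordinates {A B : Type u} [CommRing A] [CommRing B] [Algebra A B] [Algebra.FinitePresentation A B]
    (σ : B →ₐ[A] A) (P : Ideal B) [P.IsPrime] [Algebra.IsSmoothAt A P] (hP : RingHom.ker σ ≤ P) :
    ∃ (m : ℕ) (v : ULift.{u} (Fin m) → B), (∀ j, σ (v j) = 0) ∧
      ∃ g ∉ P, ((algebraMap B (Localization.Away g)).comp (MvPolynomial.aeval (R := A) v).toRingHom).Etale := by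
  classical
  let T := Localization.AtPrime P
  haveI : Algebra.EssFiniteType A T := Algebra.EssFiniteType.comp A B T
  haveI : Algebra.FormallyEtale B T := .of_isLocalization P.primeCompl
  let k := ResidueField T
  let V := k ⊗[T] Ω[T⁄A]
  let d : ↥(RingHom.ker σ) → V := fun x => 1 ⊗ₜ D A T (algebraMap B T x)
  have hsp : ⊤ ≤ Submodule.span k (Set.range d) := by
    rintro z -
    obtain ⟨w, rfl⟩ := TensorProduct.mk_surjective T _ k residue_surjective z
    obtain ⟨w, rfl⟩ := (KaehlerDifferential.tensorKaehlerEquivOfFormallyEtale A B T).surjective w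
    induction w using TensorProduct.induction_on with
    | zero => rw [map_zero, map_zero]; exact Submodule.zero_mem _
    | add a b ha hb => rw [map_add, map_add]; exact Submodule.add_mem _ ha hb
    | tmul t w =>
      rw [tensorKaehlerEquivOfFormallyEtale_apply, mapBaseChange_tmul, map_smul,
        ← IsScalarTower.algebraMap_smul k t]
      refine Submodule.smul_mem _ _ ?_
      have hw : w ∈ Submodule.span B (Set.range (D A B)) := by
        rw [KaehlerDifferential.span_range_derivation]; trivial
      induction hw using Submodule.span_induction with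
      | mem w hw =>
        obtain ⟨b, rfl⟩ := hw
        rw [map_D]
        refine Submodule.subset_span ⟨⟨b - algebraMap A B (σ b), ?_⟩, ?_⟩
        · rw [RingHom.mem_ker, map_sub, σ.commutes]; exact sub_self _
        · simp only [d, map_sub, ← IsScalarTower.algebraMap_apply, Derivation.map_algebraMap, sub_zero]
          rfl
      | zero => rw [map_zero, map_zero]; exact Submodule.zero_mem _
      | add a b _ _ ha hb => rw [map_add, map_add]; exact Submodule.add_mem _ ha hb
      | smul c a _ ha =>
        rw [map_smul, LinearMap.map_smul_of_tower, ← IsScalarTower.algebraMap_smul k c]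
        exact Submodule.smul_mem _ _ ha
  obtain ⟨s, hs, hspan, hli⟩ := exists_linearIndependent k (Set.range d)
  let bs : Module.Basis s k V := Module.Basis.mk hli (by rw [Subtype.range_coe, hspan]; exact hsp)
  haveI : Finite s := Module.Finite.finite_basis bs
  haveI : Fintype s := Fintype.ofFinite s
  let e : ULift.{u} (Fin (Fintype.card s)) ≃ s := Equiv.ulift.trans (Fintype.equivFin s).symm
  have hch : ∀ j, ∃ x, d x = (e j : V) := fun j => hs (e j).2
  choose x hx using hch
  refine ⟨_, fun j => (x j : B), fun j => (x j).2, ?_⟩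
  let B₂ := MvPolynomial (ULift.{u} (Fin (Fintype.card s))) A
  letI : Algebra B₂ B := (MvPolynomial.aeval (R := A) fun j => (x j : B)).toRingHom.toAlgebra
  haveI : IsScalarTower A B₂ B := IsScalarTower.of_algHom (MvPolynomial.aeval (R := A) fun j => (x j : B))
  let src := (((KaehlerDifferential.mvPolynomialBasis A (ULift.{u} (Fin (Fintype.card s)))).baseChange T).baseChange k)
  have hbij : Function.Bijective ((mapBaseChange A B₂ T).baseChange k) := by
    have h : (mapBaseChange A B₂ T).baseChange k = (src.equiv bs e).toLinearMap := by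
      refine src.ext fun j => ?_
      rw [LinearEquiv.coe_coe, Module.Basis.equiv_apply]
      simp only [src, Module.Basis.baseChange_apply, LinearMap.baseChange_tmul, KaehlerDifferential.mvPolynomialBasis_apply]
      rw [mapBaseChange_tmul, one_smul, map_D, IsScalarTower.algebraMap_apply B₂ B T]
      rw [show bs (e j) = d (x j) by rw [Module.Basis.mk_apply]; exact (hx j).symm]
      simp only [d]
      congr 4
      exact MvPolynomial.aeval_X _ j
    rw [h]
    exact (src.equiv bs e).bijective
  haveI := isEtaleAt_of_bijective_baseChange (A := A) (B₂ := B₂) P hbij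
  haveI : Algebra.FinitePresentation B₂ B := .of_restrict_scalars_finitePresentation A B₂ B
  obtain ⟨g, hg, he⟩ := Algebra.exists_etale_of_isEtaleAt (R := B₂) P
  refine ⟨g, hg, ?_⟩
  have h := RingHom.etale_algebraMap.mpr he
  rw [IsScalarTower.algebraMap_eq B₂ B (Localization.Away g)] at h
  exact h

end Groth.Agent.SectChartLib
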