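import Mathlib
import Groth.Agent.SectChartLib.Alg

/-!
# Étale charts along a section
-/

set_option autoImplicit false
set_option backward.isDefEq.respectTransparency false
set_option backward.defeqAttrib.useBackward true
set_option linter.style.haveILetI false

universe u

open CategoryTheory CategoryTheory.Limits AlgebraicGeometry

namespace Groth.Agent.SectChartLib

variable {X Y : Scheme.{u}}

/-- A point in the domain of an étale chart is a smooth point. -/
theorem mem_smoothLocus_of_chart (f : X ⟶ Y) [LocallyOfFinitePresentation f] {U : Y.Opens} {V : X.Opens}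
    (hVU : V ≤ f ⁻¹ᵁ U) {m : ℕ} (v : ULift.{u} (Fin m) → Γ(V, ⊤))
    (h : Etale (AffineSpace.homOfVector (f.resLE U V hVU) v)) {x : X} (hx : x ∈ V) : x ∈ f.smoothLocus := by
  haveI := h
  haveI : Smooth (AffineSpace (ULift.{u} (Fin m)) ↑U ↘ ↑U) := MorphismProperty.pullback_fst _ _ <| by
    haveI : IsIso (terminal.from (Spec (CommRingCat.of (ULift.{u} ℤ)))) :=
      isIso_of_isTerminal specULiftZIsTerminal.{u} terminalIsTerminal _
    rw [← terminal.comp_from (Spec.map (CommRingCat.ofHom (MvPolynomial.C (σ := ULift.{u} (Fin m)) (R := ULift.{u} ℤ)))),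
      MorphismProperty.cancel_right_of_respectsIso (P := @Smooth), HasRingHomProperty.Spec_iff (P := @Smooth)]
    show RingHom.Smooth (MvPolynomial.C : ULift.{u} ℤ →+* MvPolynomial (ULift.{u} (Fin m)) (ULift.{u} ℤ))
    rw [← MvPolynomial.algebraMap_eq, RingHom.smooth_algebraMap]
    exact ⟨inferInstance, inferInstance⟩
  haveI : Smooth (f.resLE U V hVU) := by
    rw [← AffineSpace.homOfVector_over (f.resLE U V hVU) v]
    infer_instance
  haveI : Smooth (V.ι ≫ f) := by
    rw [← Scheme.Hom.resLE_comp_ι f hVU]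
    infer_instance
  have h1 : (⟨x, hx⟩ : V.toScheme) ∈ (V.ι ≫ f).smoothLocus := by
    rw [Scheme.Hom.smoothLocus_eq_top]; trivial
  rw [← Scheme.Hom.preimage_smoothLocus_eq] at h1
  exact h1

/-- Coordinates on an affine open whose ring map is étale after inverting `g` give an étale chart on the
basic open. -/
theorem etale_homOfVector_basicOpen (f : X ⟶ Y) {U : Y.Opens} (hU : IsAffineOpen U) {V : X.Opens} (hV : IsAffineOpen V)
    (e : V ≤ f ⁻¹ᵁ U) {m : Type u} (v : m → Γ(X, V)) (g : Γ(X, V))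
    (he : letI := (f.appLE U V e).hom.toAlgebra
      ((algebraMap Γ(X, V) (Localization.Away g)).comp (MvPolynomial.aeval (R := Γ(Y, U)) v).toRingHom).Etale) :
    Etale (X.homOfLE (X.basicOpen_le g) ≫
      AffineSpace.homOfVector (f.resLE U V e) (fun j => V.topIso.inv (v j))) := by
  haveI : IsAffine U.toScheme := hU
  haveI : IsAffine V.toScheme := hV
  let Φ := AffineSpace.homOfVector (f.resLE U V e) (fun j => V.topIso.inv (v j))
  let q := CommRingCat.ofHom (MvPolynomial.eval₂Hom (f.appLE U V e).hom v)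
  let ι : MvPolynomial m Γ(U, ⊤) →+* MvPolynomial m Γ(Y, U) := MvPolynomial.map U.topIso.hom.hom
  have hkey : Φ ≫ (AffineSpace.isoOfIsAffine m U.toScheme).hom =
      hV.isoSpec.hom ≫ Spec.map (CommRingCat.ofHom ι ≫ q) := by
    rw [AffineSpace.isoOfIsAffine_hom, Scheme.toSpecΓ_naturality_assoc, ← Spec.map_comp]
    rw [IsAffineOpen.isoSpec_hom, Scheme.Opens.toSpecΓ, Category.assoc, ← Spec.map_comp]
    congr 2
    refine CommRingCat.hom_ext (MvPolynomial.ringHom_ext (fun a => ?_) (fun j => ?_))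
    · simp only [CommRingCat.hom_comp, RingHom.comp_apply, CommRingCat.hom_ofHom, MvPolynomial.eval₂Hom_C, ι, q, MvPolynomial.map_C]
      rw [← CommRingCat.comp_apply, ← Scheme.Hom.comp_appTop, AffineSpace.homOfVector_over]
      show (f.resLE U V e).app ⊤ a = _
      rw [Scheme.Hom.resLE_app_top]
      rfl
    · simp only [CommRingCat.hom_comp, RingHom.comp_apply, CommRingCat.hom_ofHom, MvPolynomial.eval₂Hom_X', ι, q, MvPolynomial.map_X]
      exact AffineSpace.homOfVector_appTop_coord _ _ _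
  haveI : IsIso (CommRingCat.ofHom ι) := by
    rw [ConcreteCategory.isIso_iff_bijective]
    exact ⟨MvPolynomial.map_injective _ (ConcreteCategory.bijective_of_isIso U.topIso.hom).1,
      MvPolynomial.map_surjective _ (ConcreteCategory.bijective_of_isIso U.topIso.hom).2⟩
  rw [← MorphismProperty.cancel_right_of_respectsIso (P := @Etale) _ (AffineSpace.isoOfIsAffine m U.toScheme).hom,
    Category.assoc, show AffineSpace.homOfVector (f.resLE U V e) (fun j => V.topIso.inv (v j)) ≫
      (AffineSpace.isoOfIsAffine m U.toScheme).hom = _ from hkey, Spec.map_comp, ← Category.assoc, ← Category.assoc,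
    MorphismProperty.cancel_right_of_respectsIso (P := @Etale)]
  haveI := hV.isLocalization_basicOpen g
  have hb : IsAffineOpen (X.basicOpen g) := hV.basicOpen g
  have h2 : X.homOfLE (X.basicOpen_le g) ≫ hV.isoSpec.hom =
      hb.isoSpec.hom ≫ Spec.map (X.presheaf.map (homOfLE (X.basicOpen_le g)).op) := by
    rw [IsAffineOpen.isoSpec_hom, IsAffineOpen.isoSpec_hom, Scheme.Opens.toSpecΓ_SpecMap_presheaf_map]
  rw [h2, Category.assoc, ← Spec.map_comp, MorphismProperty.cancel_left_of_respectsIso (P := @Etale),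
    HasRingHomProperty.Spec_iff (P := @Etale)]
  letI := (f.appLE U V e).hom.toAlgebra
  have h3 : (X.presheaf.map (homOfLE (X.basicOpen_le g)).op).hom =
      (IsLocalization.algEquiv (Submonoid.powers g) (Localization.Away g) Γ(X, X.basicOpen g)).toRingEquiv.toRingHom.comp
        (algebraMap Γ(X, V) (Localization.Away g)) := by
    refine RingHom.ext fun a => ?_
    exact ((IsLocalization.algEquiv (Submonoid.powers g) (Localization.Away g) Γ(X, X.basicOpen g)).commutes a).symm
  rw [CommRingCat.hom_comp, h3, RingHom.comp_assoc]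
  exact RingHom.Etale.respectsIso.1 _ _ he

/-- A smooth point on a section has an étale chart carrying the section to the zero section. -/
theorem exists_chart (f : X ⟶ Y) [LocallyOfFinitePresentation f] (i : Y ⟶ X) (hi : i ≫ f = 𝟙 Y) (y : Y)
    (hy : i y ∈ f.smoothLocus) :
    ∃ (U : Y.Opens) (V : X.Opens) (_ : y ∈ U) (hUV : U ≤ i ⁻¹ᵁ V) (hVU : V ≤ f ⁻¹ᵁ U) (m : ℕ)
      (v : ULift.{u} (Fin m) → Γ(V, ⊤)),
      Etale (AffineSpace.homOfVector (f.resLE U V hVU) v) ∧ ∀ j, (i.resLE V U hUV).appTop (v j) = 0 := by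
  have hfi : f (i y) = y := by
    rw [← Scheme.Hom.comp_apply, hi]; rfl
  obtain ⟨_, ⟨U0 : Y.Opens, hU0, rfl⟩, hyU0, -⟩ :=
    Y.isBasis_affineOpens.exists_subset_of_mem_open (Set.mem_univ y) isOpen_univ
  obtain ⟨_, ⟨V0 : X.Opens, hV0, rfl⟩, hyV0, hV0U⟩ :=
    X.isBasis_affineOpens.exists_subset_of_mem_open (a := i y) (u := ↑(f ⁻¹ᵁ U0 ⊓ f.smoothLocus))
      ⟨show f (i y) ∈ U0 from hfi.symm ▸ hyU0, hy⟩ (f ⁻¹ᵁ U0 ⊓ f.smoothLocus).2
  have e0 : V0 ≤ f ⁻¹ᵁ U0 := fun x hx => (hV0U hx).1
  obtain ⟨a, hale, hya⟩ := hU0.exists_basicOpen_le (V := U0 ⊓ i ⁻¹ᵁ V0) ⟨y, hyU0, hyV0⟩ hyU0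
  let U := Y.basicOpen a
  have hU : IsAffineOpen U := hU0.basicOpen a
  let V := X.basicOpen ((f.appLE U0 V0 e0).hom a)
  have hV : IsAffineOpen V := hV0.basicOpen _
  have hVeq : V = V0 ⊓ f ⁻¹ᵁ U := by
    show X.basicOpen ((X.presheaf.map (homOfLE e0).op) (f.app U0 a)) = _
    rw [X.basicOpen_res, ← Scheme.preimage_basicOpen]
  have e : V ≤ f ⁻¹ᵁ U := hVeq.le.trans inf_le_right
  have hUV : U ≤ i ⁻¹ᵁ V := fun z hz => by
    rw [hVeq]
    refine ⟨(hale hz).2, ?_⟩
    show f (i z) ∈ U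
    rw [← Scheme.Hom.comp_apply, hi]
    exact hz
  letI := (f.appLE U V e).hom.toAlgebra
  haveI : Algebra.FinitePresentation Γ(Y, U) Γ(X, V) :=
    HasRingHomProperty.appLE (P := @LocallyOfFinitePresentation) f inferInstance ⟨U, hU⟩ ⟨V, hV⟩ e
  let σ : Γ(X, V) →ₐ[Γ(Y, U)] Γ(Y, U) :=
    { toRingHom := (i.appLE V U hUV).hom
      commutes' := fun c => by
        show ((f.appLE U V e) ≫ i.appLE V U hUV) c = c
        rw [Scheme.Hom.appLE_comp_appLE]
        have key : ∀ (g : Y ⟶ Y) (_ : g = 𝟙 Y) (h : U ≤ g ⁻¹ᵁ U), g.appLE U U h = 𝟙 _ := by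
          rintro _ rfl h
          simp [Scheme.Hom.appLE]
          exact Y.presheaf.map_id _
        rw [key _ hi]
        rfl }
  have hyV : i y ∈ V := hUV (show y ∈ U from hya)
  let P := (hV.primeIdealOf ⟨i y, hyV⟩).asIdeal
  haveI : Algebra.IsSmoothAt Γ(Y, U) P :=
    (formallySmooth_stalkMap_iff U hU V hV e hyV).mp hy
  have hP : RingHom.ker σ ≤ P := by
    intro x hx
    by_contra hxP
    have h1 : i y ∈ X.basicOpen x := by
      suffices hV.fromSpec (hV.primeIdealOf ⟨i y, hyV⟩) ∈ X.basicOpen x by rwa [hV.fromSpec_primeIdealOf] at this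
      rw [← Scheme.Hom.mem_preimage, hV.fromSpec_preimage_basicOpen]
      exact hxP
    have h2 : y ∈ Y.basicOpen (i.appLE V U hUV x) := by
      rw [Scheme.Hom.appLE, CommRingCat.comp_apply, Y.basicOpen_res, ← Scheme.preimage_basicOpen]
      exact ⟨hya, h1⟩
    rw [show i.appLE V U hUV x = 0 from hx, Scheme.basicOpen_zero] at h2
    exact h2
  obtain ⟨m, v, hv, g, hg, het⟩ := exists_coordinates σ P hP
  have hyg : i y ∈ X.basicOpen g := by
    suffices hV.fromSpec (hV.primeIdealOf ⟨i y, hyV⟩) ∈ X.basicOpen g by rwa [hV.fromSpec_primeIdealOf] at this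
    rw [← Scheme.Hom.mem_preimage, hV.fromSpec_preimage_basicOpen]
    exact hg
  let U2 : Y.Opens := U ⊓ i ⁻¹ᵁ X.basicOpen g
  let V2 : X.Opens := X.basicOpen g ⊓ f ⁻¹ᵁ U2
  have hV2g : V2 ≤ X.basicOpen g := inf_le_left
  have hV2V : V2 ≤ V := hV2g.trans (X.basicOpen_le g)
  have hUV2 : U2 ≤ i ⁻¹ᵁ V2 := fun z hz => ⟨hz.2, by
    show f (i z) ∈ U2
    rw [← Scheme.Hom.comp_apply, hi]
    exact hz⟩
  refine ⟨U2, V2, ⟨hya, hyg⟩, hUV2, inf_le_right, m,
    fun j => (X.homOfLE hV2V).appTop (V.topIso.inv (v j)), ?_, fun j => ?_⟩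
  · haveI := etale_homOfVector_basicOpen f hU hV e v g het
    haveI : IsOpenImmersion (AffineSpace.map (ULift.{u} (Fin m)) (Y.homOfLE (inf_le_left : U2 ≤ U))) :=
      MorphismProperty.of_isPullback (AffineSpace.isPullback_map _).flip inferInstance
    haveI : Etale (AffineSpace.homOfVector (f.resLE U2 V2 inf_le_right)
        (fun j => (X.homOfLE hV2V).appTop (V.topIso.inv (v j))) ≫
          AffineSpace.map (ULift.{u} (Fin m)) (Y.homOfLE (inf_le_left : U2 ≤ U))) := by
      rw [show AffineSpace.homOfVector (f.resLE U2 V2 inf_le_right)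
          (fun j => (X.homOfLE hV2V).appTop (V.topIso.inv (v j))) ≫
          AffineSpace.map (ULift.{u} (Fin m)) (Y.homOfLE (inf_le_left : U2 ≤ U)) =
        X.homOfLE hV2g ≫ X.homOfLE (X.basicOpen_le g) ≫
          AffineSpace.homOfVector (f.resLE U V e) (fun j => V.topIso.inv (v j)) from ?_]
      · infer_instance
      apply AffineSpace.hom_ext
      · simp only [Category.assoc, AffineSpace.map_over, AffineSpace.homOfVector_over_assoc,
          AffineSpace.homOfVector_over]
        rw [← cancel_mono U.ι]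
        simp [Scheme.homOfLE_ι]
      · intro k
        rw [Scheme.Hom.comp_appTop, CommRingCat.comp_apply, AffineSpace.map_appTop_coord,
          AffineSpace.homOfVector_appTop_coord, ← Category.assoc, Scheme.homOfLE_homOfLE, Scheme.Hom.comp_appTop,
          CommRingCat.comp_apply, AffineSpace.homOfVector_appTop_coord]
    exact Etale.of_comp _ (AffineSpace.map (ULift.{u} (Fin m)) (Y.homOfLE (inf_le_left : U2 ≤ U)))
  · rw [← CommRingCat.comp_apply, ← Scheme.Hom.comp_appTop,
      show i.resLE V2 U2 hUV2 ≫ X.homOfLE hV2V = Y.homOfLE (inf_le_left : U2 ≤ U) ≫ i.resLE V U hUV by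
        rw [← cancel_mono V.ι]; simp [Scheme.homOfLE_ι]; rfl,
      Scheme.Hom.comp_appTop, CommRingCat.comp_apply]
    have h0 : (i.resLE V U hUV).appTop (V.topIso.inv (v j)) = 0 := by
      show (i.resLE V U hUV).app ⊤ _ = 0
      rw [Scheme.Hom.resLE_app_top]
      simp only [CommRingCat.comp_apply, Iso.inv_hom_id_apply]
      rw [show i.appLE V U hUV (v j) = 0 from hv j, map_zero]
    rw [h0, map_zero]

end Groth.Agent.SectChartLib
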